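import Cfsg.Agent.H226.Tall.Gen
import Cfsg.Agent.KFacts.ChevTwoSysInst
import Cfsg.Agent.KFacts.ChevTwoInstE
import Cfsg.Agent.KFacts.RgdCent
import Cfsg.Agent.KFacts.RgdSyl
import Cfsg.Agent.OddHalf.D4.LineGTwoInst

/-!
# S2927 [LAE]: `RowTwo` for the exceptional Chevalley groups in characteristic 2 (helper92)

* `rowTwo_of_rgd` : `RowTwo` from a root group datum with `p = 2`: it is enough that the elements of `Z(U)` commute with
  `X_{±α_i}` for a node `i`;
* `rowTwo_of_sys` : for `ChevTwo.Sys`, if every dominant root is orthogonal to `α_i`;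
* `rowTwo_F4`, `rowTwo_E6`, `rowTwo_E7`, `rowTwo_E8`, `rowTwo_G2`; `rowTwo_exc`, `no2_exc` (`IsExceptionalChevChar 2`).
-/

set_option autoImplicit false
set_option linter.unusedSectionVars false

namespace Cfsg.Agent.H92.Tall

open Subgroup CoxeterSystem Cfsg.Agent.ChevalleyStructure.CoxeterGeom Cfsg.Agent.Tits.Roots Cfsg.Agent.Tits.Core
  Cfsg.Agent.Tits.RootComb Cfsg.Agent.Nodes.Comb Cfsg.Agent.Nodes.Reps Cfsg.Agent.Nodes.BNOf Cfsg.Agent.Nodes.Bruhat
  Cfsg.Agent.Nodes.Coroot Cfsg.Agent.Nodes.OppDec Cfsg.Agent.Nodes.RGDLib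
  Cfsg.Agent.Nodes Cfsg.Agent.KFacts.RgdPar Cfsg.Agent.KFacts.RgdTI Cfsg.Agent.KFacts.RgdCent
  Cfsg.Agent.KFacts.RgdSyl Cfsg.Agent.KFacts.ChevTwo Cfsg.Agent.KFacts.ChevTwoInst
open Cfsg.Lie Cfsg.Agent.ChevalleyStructure Cfsg.Agent.ChevalleyStructure.Elts
  Cfsg.Agent.ChevalleyStructure.RootVec Cfsg.Agent.ChevalleyStructure.RootVecTab
  Cfsg.Agent.ChevalleyStructure.NPerm Cfsg.Agent.ChevalleyStructure.CoxeterGeomTypes Cfsg.Agent.Nodes.RGDChev
open Cfsg.Agent.H226.Tall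

universe u

/-! ### Position -/

/-- a 2-central involution can be moved to `Z(U)` -/
theorem exists_std {Y : Type*} [Group Y] [Finite Y] {U : Subgroup Y} (hU : IsPGroup 2 ↥U) (hi : ¬ 2 ∣ U.index) {z : Y}
    (hz : TwoC z) : ∃ g : Y, g * z * g⁻¹ ∈ U ∧ ∀ u ∈ U, g * z * g⁻¹ * u = u * (g * z * g⁻¹) := by
  have : Fact (Nat.Prime 2) := ⟨Nat.prime_two⟩
  obtain ⟨h1, P, hP⟩ := hz
  -- `z ∈ P`
  have hzP : z ∈ (P : Subgroup Y) := by
    have h2 : IsPGroup 2 ↥(Subgroup.zpowers z) := by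
      rw [IsPGroup.iff_card]
      exact ⟨1, by rw [Nat.card_zpowers, h1, pow_one]⟩
    have h3 : Subgroup.zpowers z ≤ normalizer ((P : Subgroup Y) : Set Y) := by
      rw [Subgroup.zpowers_le, mem_normalizer_iff]
      intro y
      constructor
      · intro hy
        have h4 := mem_centralizer_singleton_iff.1 (hP hy)
        rwa [← h4, mul_inv_cancel_right]
      · intro hy
        have h4 := mem_centralizer_singleton_iff.1 (hP hy)
        have h5 : y = z * y * z⁻¹ := by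
          calc y = z⁻¹ * (z * y * z⁻¹ * z) := by group
            _ = z⁻¹ * (z * (z * y * z⁻¹)) := by rw [h4]
            _ = z * y * z⁻¹ := by group
        rw [h5]
        exact hy
    have h4 : IsPGroup 2 ↥((P : Subgroup Y) ⊔ Subgroup.zpowers z) := by
      rw [sup_comm]
      exact h2.to_sup_of_normal_right' P.isPGroup' h3
    have h5 := P.is_maximal' h4 le_sup_left
    rw [← h5]
    exact (le_sup_right : Subgroup.zpowers z ≤ _) (Subgroup.mem_zpowers z)
  obtain ⟨g, hg⟩ := MulAction.exists_smul_eq Y P (hU.toSylow hi)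
  have h2 : ∀ u, u ∈ U ↔ g⁻¹ * u * g ∈ (P : Subgroup Y) := by
    intro u
    have h3 : ((g • P : Sylow 2 Y) : Subgroup Y) = U := by rw [hg]; rfl
    rw [← h3, Sylow.coe_subgroup_smul, Subgroup.mem_pointwise_smul_iff_inv_smul_mem, ← map_inv, MulAut.smul_def,
      MulAut.conj_apply, inv_inv]
  refine ⟨g, (h2 _).2 (by rw [show g⁻¹ * (g * z * g⁻¹) * g = z by group]; exact hzP), fun u hu => ?_⟩
  have h3 := mem_centralizer_singleton_iff.1 (hP ((h2 u).1 hu))
  calc g * z * g⁻¹ * u = g * (z * (g⁻¹ * u * g)) * g⁻¹ := by group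
    _ = g * (g⁻¹ * u * g * z) * g⁻¹ := by rw [h3]
    _ = u * (g * z * g⁻¹) := by group

/-- the centralizer of a conjugate -/
theorem isPGroup_conj {Y : Type*} [Group Y] {z : Y} (g : Y) (h : IsPGroup 2 ↥(centralizer ({z} : Set Y))) :
    IsPGroup 2 ↥(centralizer ({g * z * g⁻¹} : Set Y)) :=
  h.of_equiv (centEquiv (MulAut.conj g) z)

section RGD

variable {I W Y : Type*} [Fintype I] [DecidableEq I] [Group W] [Group Y] {M : CoxeterMatrix I}
  {cs : CoxeterSystem M W} {A : I → I → ℤ} {h : IsCartan M A} {T : Subgroup Y} {n : I → Y}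
  {X : (I → ℤ) → Subgroup Y}

/-- **`RowTwo` from a root group datum.** -/
theorem rowTwo_of_rgd [Finite Y] [Finite W] (R : RGD cs h 2 T n X) (hG : GG cs h T X = ⊤) (i : I)
    (H : ∀ z ∈ RGD.Sup X (RGD.Pos cs h), (∀ u ∈ RGD.Sup X (RGD.Pos cs h), z * u = u * z) →
      (∀ v ∈ X (sr i), z * v = v * z) ∧ ∀ v ∈ X (-sr i), z * v = v * z) : RowTwo Y := by
  have : Fact (Nat.Prime 2) := ⟨Nat.prime_two⟩
  intro z hz hp
  have hi : ¬ 2 ∣ (RGD.Sup X (RGD.Pos cs h)).index := by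
    have h1 := not_dvd_relIndex R
    rwa [hG, Subgroup.relIndex_top_right] at h1
  obtain ⟨g, h1, h2⟩ := exists_std R.isPGroup_Upos hi hz
  obtain ⟨h3, h4⟩ := H _ h1 h2
  refine R.notp i ((isPGroup_conj g hp).to_le (sup_le ?_ ?_))
  · intro v hv
    rw [mem_centralizer_singleton_iff]
    exact (h3 v hv).symm
  · intro v hv
    rw [mem_centralizer_singleton_iff]
    exact (h4 v hv).symm

/-- an element of `Z(U)` is a product of elements of dominant root groups (all `X a` in the sense of `Sys`) -/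
theorem mem_star_pos {K : Type*} [Field K] {e : (I → ℤ) → K → Y} [Finite W] {R : RGD cs h 2 T n X} (S : Sys R e)
    (hG : GG cs h T X = ⊤) {z : Y} (hz : z ∈ RGD.Sup X (RGD.Pos cs h))
    (hc : ∀ u ∈ RGD.Sup X (RGD.Pos cs h), z * u = u * z) : z ∈ RGD.Sup X (star cs h (RGD.Pos cs h)) := by
  classical
  have h1 : ∀ a, ∃ v, a ∈ RGD.Pos cs h → v ∈ X a ∧ v ≠ 1 ∧ z * v = v * z := by
    intro a
    by_cases ha : a ∈ RGD.Pos cs h
    · obtain ⟨⟨v, hv⟩, hv1⟩ := (Subgroup.ne_bot_iff_exists_ne_one).1 (X_ne_bot R ha.1)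
      exact ⟨v, fun _ => ⟨hv, fun h0 => hv1 (Subtype.ext h0), hc v (RGD.le_Sup ha hv)⟩⟩
    · exact ⟨1, fun h0 => absurd h0 ha⟩
  choose v hv using h1
  obtain ⟨t, ht, -, q, hq, e1⟩ := S.centralizer (fun a ha => ha.1) (g := z) (by rw [hG]; exact Subgroup.mem_top z) hv
  have hsub : star cs h (RGD.Pos cs h) ⊆ RGD.Pos cs h := by
    rintro b ⟨hb1, hb2⟩
    rcases hb1.pos_or_neg with h0 | h0
    · exact ⟨hb1, h0⟩
    · exfalso
      have h2 := hb2 (-b) ⟨hb1.neg, neg_nonneg.2 h0⟩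
      rw [cpr_neg_right cs h b hb1, cpr_self cs h hb1] at h2
      omega
  have hqU : q ∈ RGD.Sup X (RGD.Pos cs h) := RGD.Sup_mono hsub hq
  have htU : t ∈ RGD.Sup X (RGD.Pos cs h) ⊓ T := by
    refine ⟨?_, ht⟩
    have h5 : t = z * q⁻¹ := by rw [e1]; group
    rw [h5]
    exact Subgroup.mul_mem _ hz (Subgroup.inv_mem _ hqU)
  rw [U_inf_T R, Subgroup.mem_bot] at htU
  rw [e1, htU, one_mul]
  exact hq

/-- **`RowTwo` for `Sys`.** -/
theorem rowTwo_of_sys {K : Type*} [Field K] {e : (I → ℤ) → K → Y} [Finite Y] [Finite W] {R : RGD cs h 2 T n X}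
    (S : Sys R e) (hG : GG cs h T X = ⊤) (i : I)
    (hi : ∀ b, IsRoot cs h b → (∀ j, 0 ≤ cpr cs h b (sr j)) → cpr cs h b (sr i) = 0) : RowTwo Y := by
  refine rowTwo_of_rgd R hG i fun z hz hc => ?_
  have h1 := mem_star_pos S hG hz hc
  have h2 : ∀ b ∈ star cs h (RGD.Pos cs h), cpr cs h b (sr i) = 0 := fun b hb =>
    hi b hb.1 fun j => hb.2 (sr j) ⟨isRoot_sr cs h j, sr_nonneg j⟩
  have h3 : ∀ v ∈ X (sr i), ∀ b ∈ star cs h (RGD.Pos cs h), ∀ u ∈ X b, u * v = v * u := fun v hv b hb u hu =>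
    (S.lr (isRoot_sr cs h i)).comm b hb.1 (by rw [h2 b hb]) u hu v hv
  have h4 : ∀ v ∈ X (-sr i), ∀ b ∈ star cs h (RGD.Pos cs h), ∀ u ∈ X b, u * v = v * u := fun v hv b hb u hu =>
    (S.lr (isRoot_sr cs h i).neg).comm b hb.1 (by
      rw [cpr_neg_right cs h b (isRoot_sr cs h i), h2 b hb, neg_zero]) u hu v hv
  have key : ∀ v, (∀ b ∈ star cs h (RGD.Pos cs h), ∀ u ∈ X b, u * v = v * u) → z * v = v * z := by
    intro v hv
    have h5 : RGD.Sup X (star cs h (RGD.Pos cs h)) ≤ centralizer ({v} : Set Y) :=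
      RGD.Sup_le fun b hb u hu => mem_centralizer_singleton_iff.2 (hv b hb u hu)
    exact mem_centralizer_singleton_iff.1 (h5 h1)
  exact ⟨fun v hv => key v (h3 v hv), fun v hv => key v (h4 v hv)⟩

end RGD

/-! ### The groups -/

/-- the dominant roots are orthogonal to `α_i` -/
def domOrth (D : ChevalleyDatum) (i : ℕ) : Bool :=
  (List.range D.nroots).all fun r =>
    !((List.range D.rank).all fun j => decide (0 ≤ D.cartan j r)) || decide (D.cartan i r = 0)

theorem GG_eq_top {D : ChevalleyDatum} {l : ℕ} {M : CoxeterMatrix (Fin l)} (hp : IsType D l M) (K : Type*) [Field K]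
    {T : Subgroup ↥(D.group K)} :
    GG M.toCoxeterSystem hp.isCartan T (fun x => (XV D l K x).subgroupOf (D.group K)) = ⊤ := by
  rw [eq_top_iff, ← G1_eq_top hp M.toCoxeterSystem]
  exact le_sup_right

theorem rowTwo_group {D : ChevalleyDatum} {l : ℕ} {M : CoxeterMatrix (Fin l)} (hp : IsType D l M) (hOK : TwoOK D)
    (i : Fin l) (ht : domOrth D i = true) (K : Type u) [Field K] [Finite K] [CharP K 2] : RowTwo ↥(D.group K) := by
  have : Fact (Nat.Prime 2) := ⟨Nat.prime_two⟩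
  have hW : Finite M.Group := finite_W hp M.toCoxeterSystem
  refine rowTwo_of_sys (sys (K := K) hp hOK M.toCoxeterSystem) (GG_eq_top hp K) i fun b hb hd => ?_
  obtain ⟨r, hr, rfl⟩ := (isRoot_iff hp _ b).1 hb
  rw [cpr_sr, pairing_vec hp i hr]
  have h1 := List.all_eq_true.1 ht r (List.mem_range.2 hr)
  rw [Bool.or_eq_true, Bool.not_eq_true', decide_eq_true_iff] at h1
  rcases h1 with h1 | h1
  · exfalso
    have h2 : ((List.range D.rank).all fun j => decide (0 ≤ D.cartan j r)) = true := by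
      rw [List.all_eq_true]
      intro j hj
      have hj' : j < l := by rw [← hp.rank_eq]; exact List.mem_range.1 hj
      have h3 := hd ⟨j, hj'⟩
      rw [cpr_sr, pairing_vec hp _ hr] at h3
      exact decide_eq_true h3
    rw [h2] at h1
    exact absurd h1 (by decide)
  · exact h1

theorem orth_F4 : domOrth chevF4 1 = true := by decide +kernel
theorem orth_E6 : domOrth chevE6 0 = true := by decide +kernel
theorem orth_E7 : domOrth chevE7 1 = true := by decide +kernel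
theorem orth_E8 : domOrth chevE8 0 = true := by decide +kernel

section

variable (K : Type u) [Field K] [Finite K] [CharP K 2]

/-- **`F₄(2ⁿ)`** -/
theorem rowTwo_F4 : RowTwo ↥(chevF4.group K) :=
  rowTwo_group (l := 4) (M := CoxeterMatrix.F₄) (by simp [IsType, typeList]) twoOK_F4 1 orth_F4 K

/-- **`E₆(2ⁿ)`** -/
theorem rowTwo_E6 : RowTwo ↥(chevE6.group K) :=
  rowTwo_group (l := 6) (M := CoxeterMatrix.E₆) (by simp [IsType, typeList]) twoOK_E6 0 orth_E6 K

/-- **`E₇(2ⁿ)`** -/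
theorem rowTwo_E7 : RowTwo ↥(chevE7.group K) :=
  rowTwo_group (l := 7) (M := CoxeterMatrix.E₇) (by simp [IsType, typeList]) twoOK_E7 1 orth_E7 K

/-- **`E₈(2ⁿ)`** -/
theorem rowTwo_E8 : RowTwo ↥(chevE8.group K) :=
  rowTwo_group (l := 8) (M := CoxeterMatrix.E₈) (by simp [IsType, typeList]) twoOK_E8 0 orth_E8 K

end

/-! ### `G₂(2ⁿ)` -/

section GTwo

open Cfsg.Agent.OddHalf.D4.LineGTwo Cfsg.Agent.OddHalf.D4.LineGTwoInst

theorem tab_star : ∀ s ∈ List.range 12, 0 ≤ KFacts.ChevTwoTab.carB chevG2 6 s → 0 ≤ KFacts.ChevTwoTab.carB chevG2 10 s →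
    0 ≤ KFacts.ChevTwoTab.carB chevG2 11 s → s = 8 ∨ s = 9 ∨ s = 11 := by decide +kernel

theorem tab_orth : KFacts.ChevTwoTab.carB chevG2 11 (chevG2.neg 7) = 0 ∧ chevG2.neg 7 < 12 ∧ chevG2.simple 0 = 7 := by
  decide +kernel

variable {K : Type u} [Field K] [CharP K 2]

/-- `x_8(a) x_9(b) x_11(c)` is a subgroup -/
theorem sup_form {q : ↥(chevG2.group K)} (hq : q ∈ RGD.Sup (XX K) ({vec chevG2 2 8, vec chevG2 2 9, vec chevG2 2 11} :
    Set (Fin 2 → ℤ))) : ∃ a b c : K, q = xg K 8 a * xg K 9 b * xg K 11 c := by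
  have h811 : ∀ t u : K, xg K 8 t * xg K 11 u = xg K 11 u * xg K 8 t := 
    comm_rs (r := 8) (s := 11) (by norm_num) (by norm_num) (by norm_num) (by norm_num) (by norm_num)
      (tab_comm (8, 11) (by simp))
  have h911 : ∀ t u : K, xg K 9 t * xg K 11 u = xg K 11 u * xg K 9 t := 
    comm_rs (r := 9) (s := 11) (by norm_num) (by norm_num) (by norm_num) (by norm_num) (by norm_num)
      (tab_comm (9, 11) (by simp))
  have r8 : ∀ a b c t : K, xg K 8 a * xg K 9 b * xg K 11 c * xg K 8 t =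
      xg K 8 (a + t) * xg K 9 b * xg K 11 (t * b + c) := by
    intro a b c t
    calc xg K 8 a * xg K 9 b * xg K 11 c * xg K 8 t = xg K 8 a * xg K 9 b * (xg K 11 c * xg K 8 t) := by group
      _ = xg K 8 a * xg K 9 b * (xg K 8 t * xg K 11 c) := by rw [h811]
      _ = xg K 8 a * (xg K 9 b * xg K 8 t) * xg K 11 c := by group
      _ = xg K 8 a * (xg K 11 (t * b) * (xg K 8 t * xg K 9 b)) * xg K 11 c := by rw [dc]
      _ = xg K 8 a * xg K 11 (t * b) * xg K 8 t * xg K 9 b * xg K 11 c := by group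
      _ = xg K 8 a * (xg K 11 (t * b) * xg K 8 t) * xg K 9 b * xg K 11 c := by group
      _ = xg K 8 a * (xg K 8 t * xg K 11 (t * b)) * xg K 9 b * xg K 11 c := by rw [h811]
      _ = xg K 8 a * xg K 8 t * (xg K 11 (t * b) * xg K 9 b) * xg K 11 c := by group
      _ = xg K 8 a * xg K 8 t * (xg K 9 b * xg K 11 (t * b)) * xg K 11 c := by rw [h911]
      _ = (xg K 8 a * xg K 8 t) * xg K 9 b * (xg K 11 (t * b) * xg K 11 c) := by group
      _ = _ := by rw [← xg_add, ← xg_add]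
  have r9 : ∀ a b c t : K, xg K 8 a * xg K 9 b * xg K 11 c * xg K 9 t = xg K 8 a * xg K 9 (b + t) * xg K 11 c := by
    intro a b c t
    calc xg K 8 a * xg K 9 b * xg K 11 c * xg K 9 t = xg K 8 a * xg K 9 b * (xg K 11 c * xg K 9 t) := by group
      _ = xg K 8 a * xg K 9 b * (xg K 9 t * xg K 11 c) := by rw [h911]
      _ = xg K 8 a * (xg K 9 b * xg K 9 t) * xg K 11 c := by group
      _ = _ := by rw [← xg_add]
  have r11 : ∀ a b c t : K, xg K 8 a * xg K 9 b * xg K 11 c * xg K 11 t = xg K 8 a * xg K 9 b * xg K 11 (c + t) := by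
    intro a b c t
    rw [mul_assoc, ← xg_add]
  have hinv : ∀ (r : ℕ) (t : K), (xg K r t)⁻¹ = xg K r t := by
    intro r t
    rw [inv_eq_iff_mul_eq_one, ← xg_add, two0]
    exact Subtype.ext (xG_zero isType.inList _)
  have hle : RGD.Sup (XX K) ({vec chevG2 2 8, vec chevG2 2 9, vec chevG2 2 11} : Set (Fin 2 → ℤ)) ≤
      closure {g | (∃ t : K, g = xg K 8 t) ∨ (∃ t : K, g = xg K 9 t) ∨ ∃ t : K, g = xg K 11 t} := by
    refine RGD.Sup_le fun x hx u hu => subset_closure ?_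
    rcases hx with rfl | rfl | rfl
    · exact Or.inl ((mem_XX (by norm_num)).1 hu)
    · exact Or.inr (Or.inl ((mem_XX (by norm_num)).1 hu))
    · exact Or.inr (Or.inr ((mem_XX (by norm_num)).1 hu))
  have h0 : (1 : ↥(chevG2.group K)) = xg K 8 0 * xg K 9 0 * xg K 11 0 := by
    have h1 : ∀ r, xg K r 0 = 1 := fun r => Subtype.ext (xG_zero isType.inList _)
    rw [h1, h1, h1, one_mul, one_mul]
  have key : ∀ g ∈ closure {g | (∃ t : K, g = xg K 8 t) ∨ (∃ t : K, g = xg K 9 t) ∨ ∃ t : K, g = xg K 11 t},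
      ∃ a b c : K, g = xg K 8 a * xg K 9 b * xg K 11 c := by
    intro g hg
    induction hg using Subgroup.closure_induction_right with
    | one => exact ⟨0, 0, 0, h0⟩
    | mul_right x _ y hy ih =>
      obtain ⟨a, b, c, rfl⟩ := ih
      rcases hy with ⟨t, rfl⟩ | ⟨t, rfl⟩ | ⟨t, rfl⟩
      · exact ⟨_, _, _, r8 a b c t⟩
      · exact ⟨_, _, _, r9 a b c t⟩
      · exact ⟨_, _, _, r11 a b c t⟩
    | mul_inv_cancel x _ y hy ih =>
      obtain ⟨a, b, c, rfl⟩ := ih
      rcases hy with ⟨t, rfl⟩ | ⟨t, rfl⟩ | ⟨t, rfl⟩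
      · rw [hinv]; exact ⟨_, _, _, r8 a b c t⟩
      · rw [hinv]; exact ⟨_, _, _, r9 a b c t⟩
      · rw [hinv]; exact ⟨_, _, _, r11 a b c t⟩
  exact key q (hle hq)

variable (K) in
/-- `Z(U) ≤ X_h` -/
theorem cen_le [Finite K] {z : ↥(chevG2.group K)} (hz : z ∈ RGD.Sup (XX K) (RGD.Pos CS isType.isCartan))
    (hc : ∀ u ∈ RGD.Sup (XX K) (RGD.Pos CS isType.isCartan), z * u = u * z) : z ∈ XX K (vec chevG2 2 11) := by
  have : Fact (Nat.Prime 2) := ⟨Nat.prime_two⟩
  have hW : Finite CoxeterMatrix.G₂.Group := finite_W isType CS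
  have R := rgd (K := K) isType CS 2
  have hU : ∀ r, 6 ≤ r → r < 12 → ∀ t : K, xg K r t ∈ RGD.Sup (XX K) (RGD.Pos CS isType.isCartan) := fun r h1 h2 t =>
    RGD.le_Sup (pos_vec h1 h2) ((mem_XX h2).2 ⟨t, rfl⟩)
  have h1 : z ∈ PS ((chevG2.diagonalSubgroup K).subgroupOf (chevG2.group K)) (XX K) (Star CS isType.isCartan
      ({vec chevG2 2 6, vec chevG2 2 10, vec chevG2 2 11} : Set (Fin 2 → ℤ))) := by
    refine cent_le R ?_ ?_ ?_
    · rintro a (rfl | rfl | rfl)
      · exact long (by simp)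
      · exact long (by simp)
      · exact long (by simp)
    · have h2 := GG_eq_top isType K (T := (chevG2.diagonalSubgroup K).subgroupOf (chevG2.group K))
      rw [h2]
      exact Subgroup.mem_top z
    · intro a ha v hv
      refine hc v (RGD.le_Sup (S := RGD.Pos CS isType.isCartan) ?_ hv)
      rcases ha with rfl | rfl | rfl
      · exact pos_vec (by norm_num) (by norm_num)
      · exact pos_vec (by norm_num) (by norm_num)
      · exact pos_vec (by norm_num) (by norm_num)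
  have hsub : Star CS isType.isCartan ({vec chevG2 2 6, vec chevG2 2 10, vec chevG2 2 11} : Set (Fin 2 → ℤ)) ⊆
      ({vec chevG2 2 8, vec chevG2 2 9, vec chevG2 2 11} : Set (Fin 2 → ℤ)) := by
    rintro b ⟨hb1, hb2⟩
    obtain ⟨s, hs, rfl⟩ := (isRoot_iff isType CS b).1 hb1
    have hs12 : s < 12 := by rwa [nroots_eq] at hs
    have e : ∀ r, r < 12 → vec chevG2 2 r ∈ ({vec chevG2 2 6, vec chevG2 2 10, vec chevG2 2 11} : Set (Fin 2 → ℤ)) →
        0 ≤ KFacts.ChevTwoTab.carB chevG2 r s := by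
      intro r hr hr'
      have h3 := hb2 _ hr'
      rwa [cpr_vec isType CS (lt_nroots hr) s hs, ← carB_eq] at h3
    rcases tab_star s (List.mem_range.2 hs12) (e 6 (by norm_num) (by simp)) (e 10 (by norm_num) (by simp))
      (e 11 (by norm_num) (by simp)) with rfl | rfl | rfl
    · simp
    · simp
    · simp
  have hsubP : Star CS isType.isCartan ({vec chevG2 2 6, vec chevG2 2 10, vec chevG2 2 11} : Set (Fin 2 → ℤ)) ⊆
      RGD.Pos CS isType.isCartan := by
    intro b hb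
    rcases hsub hb with rfl | rfl | rfl
    · exact pos_vec (by norm_num) (by norm_num)
    · exact pos_vec (by norm_num) (by norm_num)
    · exact pos_vec (by norm_num) (by norm_num)
  have hT : ((chevG2.diagonalSubgroup K).subgroupOf (chevG2.group K)) ≤ Subgroup.normalizer
      (RGD.Sup (XX K) (Star CS isType.isCartan ({vec chevG2 2 6, vec chevG2 2 10, vec chevG2 2 11} :
        Set (Fin 2 → ℤ))) : Set ↥(chevG2.group K)) := R.T_le_normalizer fun x hx => hx.1
  have h3 : z ∈ ((PS ((chevG2.diagonalSubgroup K).subgroupOf (chevG2.group K)) (XX K) (Star CS isType.isCartan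
      ({vec chevG2 2 6, vec chevG2 2 10, vec chevG2 2 11} : Set (Fin 2 → ℤ))) : Subgroup ↥(chevG2.group K)) :
        Set ↥(chevG2.group K)) := h1
  unfold PS at h3
  rw [Subgroup.coe_mul_of_left_le_normalizer_right _ _ hT, Set.mem_mul] at h3
  obtain ⟨t, ht, q, hq, e1⟩ := h3
  have hqU : q ∈ RGD.Sup (XX K) (RGD.Pos CS isType.isCartan) := RGD.Sup_mono hsubP hq
  have htU : t ∈ RGD.Sup (XX K) (RGD.Pos CS isType.isCartan) ⊓
      ((chevG2.diagonalSubgroup K).subgroupOf (chevG2.group K)) := by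
    refine ⟨?_, ht⟩
    have h5 : t = z * q⁻¹ := by rw [← e1]; group
    rw [h5]
    exact Subgroup.mul_mem _ hz (Subgroup.inv_mem _ hqU)
  rw [U_inf_T R, Subgroup.mem_bot] at htU
  have hzq : z = q := by rw [← e1, htU, one_mul]
  obtain ⟨a, b, c, habc⟩ := sup_form (RGD.Sup_mono hsub hq)
  have hzz : z = xg K 8 a * xg K 9 b * xg K 11 c := by rw [hzq, habc]
  have h711 : ∀ t u : K, xg K 7 t * xg K 11 u = xg K 11 u * xg K 7 t := 
    comm_rs (r := 7) (s := 11) (by norm_num) (by norm_num) (by norm_num) (by norm_num) (by norm_num)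
      (tab_comm (7, 11) (by simp))
  have h810 : ∀ t u : K, xg K 8 t * xg K 10 u = xg K 10 u * xg K 8 t := 
    comm_rs (r := 8) (s := 10) (by norm_num) (by norm_num) (by norm_num) (by norm_num) (by norm_num)
      (tab_comm (8, 10) (by simp))
  have h7 : z * xg K 7 1 = xg K 7 1 * z := hc _ (hU 7 (by norm_num) (by norm_num) 1)
  have h8 : z * xg K 7 1 = xg K 10 b * xg K 10 a * xg K 11 (a ^ 2) * (xg K 7 1 * z) := by
    have e2 := da (K := K) 1 b
    have e3 := ca (K := K) 1 a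
    rw [one_mul] at e2
    rw [one_pow, one_mul, one_mul] at e3
    rw [hzz]
    calc xg K 8 a * xg K 9 b * xg K 11 c * xg K 7 1 = xg K 8 a * xg K 9 b * (xg K 11 c * xg K 7 1) := by group
      _ = xg K 8 a * xg K 9 b * (xg K 7 1 * xg K 11 c) := by rw [h711]
      _ = xg K 8 a * (xg K 9 b * xg K 7 1) * xg K 11 c := by group
      _ = xg K 8 a * (xg K 10 b * (xg K 7 1 * xg K 9 b)) * xg K 11 c := by rw [e2]
      _ = (xg K 8 a * xg K 10 b) * xg K 7 1 * xg K 9 b * xg K 11 c := by group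
      _ = xg K 10 b * (xg K 8 a * xg K 7 1) * xg K 9 b * xg K 11 c := by rw [h810]; group
      _ = xg K 10 b * (xg K 10 a * xg K 11 (a ^ 2) * (xg K 7 1 * xg K 8 a)) * xg K 9 b * xg K 11 c := by rw [e3]
      _ = _ := by group
  rw [h7] at h8
  have h9 : xg K 10 b * xg K 10 a * xg K 11 (a ^ 2) = 1 := (right_eq_mul.1 h8)
  rw [← xg_add] at h9
  obtain ⟨h10, h11⟩ := (gu (K := K)).ind4 (b + a) (a ^ 2) h9
  have ha : a = 0 := pow_eq_zero_iff (two_ne_zero) |>.1 h11
  rw [ha, add_zero] at h10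
  have h12 : ∀ r, xg K r 0 = 1 := fun r => Subtype.ext (xG_zero isType.inList _)
  rw [hzz, ha, h10, h12, h12, one_mul, one_mul]
  exact (mem_XX (by norm_num)).2 ⟨c, rfl⟩

variable (K) in
/-- **`G₂(2ⁿ)`** -/
theorem rowTwo_G2 [Finite K] : RowTwo ↥(chevG2.group K) := by
  have : Fact (Nat.Prime 2) := ⟨Nat.prime_two⟩
  have hW : Finite CoxeterMatrix.G₂.Group := finite_W isType CS
  have hsr : (sr 0 : Fin 2 → ℤ) = vec chevG2 2 7 := by
    rw [← vec_simple isType 0]
    show vec chevG2 2 (chevG2.simple 0) = _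
    rw [tab_orth.2.2]
  refine rowTwo_of_rgd (rgd (K := K) isType CS 2) (GG_eq_top isType K) 0 fun z hz hc => ?_
  have h1 := cen_le K hz hc
  refine ⟨fun v hv => hc v (RGD.le_Sup (S := RGD.Pos CS isType.isCartan) ⟨isRoot_sr CS isType.isCartan 0, sr_nonneg 0⟩ hv),
    fun v hv => ?_⟩
  refine ((long (K := K) (r := 11) (by simp)).comm (-sr 0) (isRoot_sr CS isType.isCartan 0).neg ?_ v hv z h1).symm
  rw [hsr, ← vec_neg isType (lt_nroots (by norm_num))]
  have h2 := cpr_vec isType CS (lt_nroots (r := 11) (by norm_num)) _ (lt_nroots tab_orth.2.1)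
  rw [← carB_eq, tab_orth.1] at h2
  exact h2.ge

end GTwo

/-! ### Summary -/

/-- **`RowTwo` for the exceptional Chevalley groups in characteristic 2.** -/
theorem rowTwo_exc {G : Type u} [Group G] (hG : IsExceptionalChevChar 2 G) : RowTwo G := by
  obtain ⟨F, _, _, _, hG⟩ := hG
  rcases hG with ⟨-, ⟨e⟩⟩ | ⟨⟨e⟩⟩ | ⟨⟨e⟩⟩ | ⟨⟨e⟩⟩ | ⟨⟨e⟩⟩
  · exact (rowTwo_G2 F).congr e.symm
  · exact (rowTwo_F4 F).congr e.symm
  · exact (rowTwo_E6 F).congr e.symm
  · exact (rowTwo_E7 F).congr e.symm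
  · exact (rowTwo_E8 F).congr e.symm

/-- **[LAE]** -/
theorem no2_exc : No2.{u} (fun K _ => IsExceptionalChevChar 2 K) := fun h hK => h.false_of_rowTwo (rowTwo_exc hK)

end Cfsg.Agent.H92.Tall
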