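import Cfsg.Agent.H92.Tall.Exc
import Cfsg.Agent.KFacts.SLRow.Row
import Cfsg.Agent.KFacts.RgdFld.Fld
import Cfsg.Agent.KFacts.SysBFSp

/-!
# S2927 [LAL]: `RowTwo` for `PSL_n` (`n ≥ 4`), `PΩ⁺_2m` (`m ≥ 4`), `PSp_2m` (`m ≥ 3`) in characteristic 2 (helper92)

* `exists_orth` : a simply laced irreducible root system of rank at least 3 has a simple root orthogonal to all dominant
  roots;
* `rowTwo_of_isSLC` : `RowTwo` for the simply laced groups of rank at least 3 (`IsSLC`);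
* `rowTwo_PSL`, `rowTwo_OPlus`, `rowTwo_PSp`.
-/

set_option autoImplicit false
set_option linter.unusedSectionVars false

namespace Cfsg.Agent.H92.Tall

open Subgroup CoxeterSystem Cfsg.Agent.ChevalleyStructure.CoxeterGeom Cfsg.Agent.Tits.Roots Cfsg.Agent.Tits.Core
  Cfsg.Agent.Tits.RootComb Cfsg.Agent.Nodes.Comb Cfsg.Agent.Nodes.Reps Cfsg.Agent.Nodes.BNOf Cfsg.Agent.Nodes.Bruhat
  Cfsg.Agent.Nodes.Coroot Cfsg.Agent.Nodes.OppDec Cfsg.Agent.Nodes.RGDLib
  Cfsg.Agent.Nodes Cfsg.Agent.KFacts.RgdPar Cfsg.Agent.KFacts.RgdTI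
  Cfsg.Agent.KFacts.ChevTwo Cfsg.Agent.KFacts.RgdSL Cfsg.Agent.KFacts.SLRow.Def Cfsg.Agent.KFacts.SLRow.Row
  Cfsg.Agent.KFacts.RgdFld.Dom
open Cfsg.Agent.H226.Tall

section Comb

variable {I W : Type*} [Fintype I] [DecidableEq I] [Group W] {M : CoxeterMatrix I} {cs : CoxeterSystem M W}
  {A : I → I → ℤ} {h : IsCartan M A}

/-- a simple root orthogonal to all dominant roots -/
theorem exists_orth [Finite W] (hs : SL cs h)
    (hconn : ∀ J : Set I, J.Nonempty → J ≠ Set.univ → ∃ a ∈ J, ∃ b, b ∉ J ∧ M a b ≠ 2) (h3 : 3 ≤ Fintype.card I) :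
    ∃ i, ∀ b, IsRoot cs h b → (∀ j, 0 ≤ cpr cs h b (sr j)) → cpr cs h b (sr i) = 0 := by
  have hdm : ∀ b, IsRoot cs h b → (∀ j, 0 ≤ cpr cs h b (sr j)) → Dm cs h b := by
    intro b hb hd i
    rw [← hs _ _ hb (isRoot_sr cs h i)]
    exact hd i
  by_cases hex : ∃ ρ, IsRoot cs h ρ ∧ ∀ j, 0 ≤ cpr cs h ρ (sr j)
  · obtain ⟨ρ, hρ, hd⟩ := hex
    have hdρ := hdm ρ hρ hd
    have huniq : ∀ b, IsRoot cs h b → (∀ j, 0 ≤ cpr cs h b (sr j)) → b = ρ := by
      intro b hb hdb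
      by_contra hne
      obtain ⟨i, hi⟩ := (highest hconn hs hρ hdρ).up b ((hdm b hb hdb).pos hb) hne
      have h1 := hdb i
      have hir := isRoot_sr cs h i
      rcases hs.cases hb hir with ⟨h2, -⟩ | ⟨h2, -⟩ | ⟨-, -, h2, h4⟩
      · rw [h2] at hi
        have h5 : cpr cs h (sr i + sr i) (sr i) = 4 := by
          rw [cpr_add cs h _ _ hir, cpr_self cs h hir]; norm_num
        have h6 := (SL.cases hs hi hir)
        rcases h6 with ⟨h7, -⟩ | ⟨h7, -⟩ | ⟨-, -, h7, h8⟩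
        · rw [h7, cpr_self cs h hir] at h5; omega
        · rw [h7, cpr_neg cs h _ hir, cpr_self cs h hir] at h5; omega
        · omega
      · rw [h2, cpr_neg cs h _ hir, cpr_self cs h hir] at h1
        omega
      · have h5 : cpr cs h (b + sr i) (sr i) = cpr cs h b (sr i) + 2 := by
          rw [cpr_add cs h _ _ hir, cpr_self cs h hir]
        have h6 := (SL.cases hs hi hir)
        rcases h6 with ⟨h7, -⟩ | ⟨h7, -⟩ | ⟨-, -, h7, h8⟩
        · have : b = 0 := by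
            have h9 : b + sr i = 0 + sr i := by rw [h7, zero_add]
            exact add_right_cancel h9
          exact hb.ne_zero this
        · rw [h7, cpr_neg cs h _ hir, cpr_self cs h hir] at h5
          omega
        · omega
    by_contra hcon
    push Not at hcon
    have h1 : ∀ i, 1 ≤ cpr cs h (sr i) ρ := by
      intro i
      obtain ⟨b, hb, hdb, hne⟩ := hcon i
      rw [huniq b hb hdb, hs _ _ hρ (isRoot_sr cs h i)] at hne
      have := hdρ i
      omega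
    have h2 := cpr_self cs h hρ
    rw [cpr_sum hρ] at h2
    have h4 : ∑ i : I, (1 : ℤ) ≤ ∑ i, ρ i * cpr cs h (sr i) ρ := by
      refine Finset.sum_le_sum fun i _ => ?_
      have h5 : 0 < ρ i := hdρ.supp hconn hs hρ i
      nlinarith [h1 i]
    rw [h2, Finset.sum_const, Finset.card_univ, nsmul_eq_mul, mul_one] at h4
    have h5 : (3 : ℤ) ≤ (Fintype.card I : ℤ) := by exact_mod_cast h3
    omega
  · push Not at hex
    have hne : Nonempty I := Fintype.card_pos_iff.1 (by omega)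
    obtain ⟨i⟩ := hne
    refine ⟨i, fun b hb hd => ?_⟩
    obtain ⟨j, hj⟩ := hex b hb
    exact absurd (hd j) (not_le.2 hj)

end Comb

theorem GG_top_of_G1 {I W Y : Type*} [Fintype I] [DecidableEq I] [Group W] [Group Y] {M : CoxeterMatrix I}
    {cs : CoxeterSystem M W} {A : I → I → ℤ} {h : IsCartan M A} {T : Subgroup Y} {X : (I → ℤ) → Subgroup Y}
    (hG : RGD.Sup X {x | IsRoot cs h x} = ⊤) : GG cs h T X = ⊤ := by
  rw [eq_top_iff, ← hG]
  exact le_sup_right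

/-- **`RowTwo` for the simply laced groups of rank at least 3.** -/
theorem rowTwo_of_isSLC {q l : ℕ} {M : CoxeterMatrix (Fin l)} {K : Type*} [Group K] [Finite K] (hK : IsSLC q M K) :
    RowTwo K := by
  obtain ⟨A, h, T, n, X, F, _, _, _, e, hW, -, -, D, S⟩ := hK
  have hs : SL M.toCoxeterSystem h := fun _ _ hx hy => Nodes.SimplyLaced.cpr_symm _ h D.h4 D.h6 hx hy
  obtain ⟨i, hi⟩ := exists_orth hs (fun J hJ hJc => by
    obtain ⟨a, ha, b, hb, hab⟩ := D.irr J hJ (by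
      by_contra hcon
      rw [Set.not_nonempty_iff_eq_empty, Set.compl_empty_iff] at hcon
      exact hJc hcon)
    exact ⟨a, ha, b, hb, hab⟩) D.three
  exact rowTwo_of_sys S D.GG_eq i hi

/-- **`PSL_n(2^k)`, `n ≥ 4`** -/
theorem rowTwo_PSL {n : ℕ} (hn : 4 ≤ n) (F : Type) [Field F] [Finite F] [CharP F 2] :
    RowTwo (Matrix.ProjectiveSpecialLinearGroup (Fin n) F) := by
  obtain ⟨m, rfl⟩ : ∃ m, n = m + 1 := ⟨n - 1, by omega⟩
  have : Finite (Matrix.ProjectiveSpecialLinearGroup (Fin (m + 1)) F) := Quotient.finite _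
  exact rowTwo_of_isSLC (isSLC_PSL (by omega) F)

/-- **`PΩ⁺_2m(2^k)`, `m ≥ 4`** -/
theorem rowTwo_OPlus {m : ℕ} (hm : 4 ≤ m) (F : Type) [Field F] [Finite F] [CharP F 2] :
    RowTwo (POmega F (quadFormPlus m F)) := by
  obtain ⟨n, rfl⟩ : ∃ n, m = n + 2 := ⟨m - 2, by omega⟩
  have : Finite (POmega F (quadFormPlus (n + 2) F)) := Quotient.finite _
  exact rowTwo_of_isSLC (isSLC_OPlus (by omega) F)

/-- **`PSp_2m(2^k)`, `m ≥ 3`** -/
theorem rowTwo_PSp {m : ℕ} (hm : 3 ≤ m) (F : Type*) [Field F] [Finite F] [CharP F 2] : RowTwo (PSp m F) := by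
  have : Fact (Nat.Prime 2) := ⟨Nat.prime_two⟩
  have hW : Finite (CoxeterMatrix.B m).Group := TypeC.finite_W (CoxeterMatrix.B m).toCoxeterSystem
  have hY : Finite (PSp m F) := Quotient.finite _
  have hlt : m - 1 < m := by omega
  refine rowTwo_of_sys (KFacts.SysSp.sys_PSp m F (CoxeterMatrix.B m).toCoxeterSystem)
    (GG_top_of_G1 (KFacts.SysSp.sup_eq_top_PSp (by omega) F _)) ⟨m - 1, hlt⟩ fun b hb hd => ?_
  have hdom : Dom (TypeC.A m) b := fun i => by
    have h1 := hd i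
    rwa [cpr_sr] at h1
  have hsr : (sr (⟨m - 1, hlt⟩ : Fin m) : Fin m → ℤ) =
      KindBC.rt ((⟨m - 1, hlt⟩ : Fin m), true) ((⟨m - 1, hlt⟩ : Fin m), true) := by
    rw [KindBC.sr_eq_rt]
    congr 1
    unfold TypeC.nx
    rw [dif_neg (by simp only; omega)]
  rw [hsr, KindBC.cpr_rt_self]
  have h0 : ∀ (k : ℕ) (hk : k < m), k < 2 → TypeC.wt ((⟨k, hk⟩ : Fin m), true) (⟨m - 1, hlt⟩ : Fin m) = 0 := by
    intro k hk hk2
    refine KindBC.wt_apply_ne (fun h1 => ?_)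
    have h2 := congrArg Fin.val h1
    simp only at h2
    omega
  rcases (KindBC.isRoot_iff_mem _).1 hb with h1 | h1
  · obtain ⟨hn, rfl⟩ := (KindBC.dom_RB h1).1 hdom
    rw [KindBC.ee_rt, Pi.add_apply, h0 0 (by omega) (by omega), h0 1 hn (by omega)]
    norm_num
  · obtain ⟨hn, rfl⟩ := (KindBC.dom_RC h1).1 hdom
    rw [KindBC.ee_rt, Pi.add_apply, h0 0 hn (by omega)]
    norm_num

end Cfsg.Agent.H92.Tall
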